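import Mathlib.LinearAlgebra.Finsupp.Defs
import Mathlib.LinearAlgebra.Finsupp.LSum
import Mathlib.Data.Finsupp.Order
import Mathlib.LinearAlgebra.Basis.Defs
import Mathlib.LinearAlgebra.DirectSum.Finsupp
import Mathlib.Tactic

/-!
# Shift operators: the de Rham - Poincare lemma for divided powers, one variable at a time

`M ⊗ Γ(V^∨)` = functions `(σ →₀ ℕ) →₀ M`, the derivation along the `a`-th coordinate is the shift `f ↦ f (· + e_a)`.
`ShiftSys R X σ θ` : commuting endomorphisms `θ a` of `X` such that `θ b` is onto on `⋂_{a ∈ s} ker (θ a)` for every finite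
set `s` with `b ∉ s`.  It holds for the shifts and so for every `(X, θ)` isomorphic to the shifts.
-/

set_option autoImplicit false

namespace Groth.Agent.ResProp.EF.K114

open scoped TensorProduct

universe u v w

section Abstract

variable {R : Type u} [Semiring R] {X : Type v} [AddCommMonoid X] [Module R X] {σ : Type w}

/-- the common kernel of the `θ a`, `a ∈ s` -/
def kerN (θ : σ → X →ₗ[R] X) (s : Set σ) : Submodule R X := ⨅ a ∈ s, LinearMap.ker (θ a)

theorem mem_kerN {θ : σ → X →ₗ[R] X} {s : Set σ} {x : X} : x ∈ kerN θ s ↔ ∀ a ∈ s, θ a x = 0 := by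
  simp [kerN, Submodule.mem_iInf]

theorem kerN_empty (θ : σ → X →ₗ[R] X) : kerN θ ∅ = ⊤ := by
  simp [kerN]

theorem kerN_anti (θ : σ → X →ₗ[R] X) {s t : Set σ} (h : s ⊆ t) : kerN θ t ≤ kerN θ s := fun _ hx =>
  mem_kerN.2 fun a ha => mem_kerN.1 hx a (h ha)

theorem mem_kerN_insert {θ : σ → X →ₗ[R] X} {s : Set σ} {b : σ} {x : X} :
    x ∈ kerN θ (insert b s) ↔ θ b x = 0 ∧ x ∈ kerN θ s := by
  simp [mem_kerN, Set.mem_insert_iff, or_imp, forall_and]

/-- commuting operators, each onto on the common kernel of any set of other ones -/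
structure ShiftSys (θ : σ → X →ₗ[R] X) : Prop where
  comm : ∀ a b x, θ a (θ b x) = θ b (θ a x)
  onto : ∀ (s : Set σ) (b : σ), b ∉ s → ∀ x ∈ kerN θ s, ∃ y ∈ kerN θ s, θ b y = x

theorem ShiftSys.map_kerN {θ : σ → X →ₗ[R] X} (h : ShiftSys θ) (s : Set σ) (b : σ) {x : X} (hx : x ∈ kerN θ s) :
    θ b x ∈ kerN θ s :=
  mem_kerN.2 fun a ha => by rw [h.comm, mem_kerN.1 hx a ha, map_zero]

/-- transport -/
theorem ShiftSys.of_equiv {Y : Type*} [AddCommMonoid Y] [Module R Y] {θ : σ → X →ₗ[R] X} (h : ShiftSys θ)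
    {η : σ → Y →ₗ[R] Y} (e : Y ≃+ X) (he : ∀ a y, e (η a y) = θ a (e y)) : ShiftSys η where
  comm a b y := e.injective (by rw [he, he, he, he, h.comm])
  onto s b hb y hy := by
    have hy' : e y ∈ kerN θ s := mem_kerN.2 fun a ha => by rw [← he, mem_kerN.1 hy a ha, map_zero]
    obtain ⟨x, hx, hxy⟩ := h.onto s b hb (e y) hy'
    refine ⟨e.symm x, mem_kerN.2 fun a ha => e.injective ?_, e.injective ?_⟩
    · rw [he, e.apply_symm_apply, mem_kerN.1 hx a ha, map_zero]
    · rw [he, e.apply_symm_apply, hxy]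

end Abstract

section Shift

variable (R : Type u) [Semiring R] (M : Type v) [AddCommMonoid M] [Module R M] {σ : Type w}

theorem add_single_inj (a : σ) : Function.Injective fun α : σ →₀ ℕ => α + Finsupp.single a 1 := fun _ _ h =>
  add_right_cancel h

/-- the shift `f ↦ f (· + e_a)` -/
noncomputable def shift (a : σ) : ((σ →₀ ℕ) →₀ M) →ₗ[R] ((σ →₀ ℕ) →₀ M) :=
  Finsupp.lcomapDomain _ (add_single_inj a)

/-- the section `f ↦ f (· - e_a)` -/
noncomputable def unshift (a : σ) : ((σ →₀ ℕ) →₀ M) →ₗ[R] ((σ →₀ ℕ) →₀ M) :=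
  Finsupp.lmapDomain M R fun α : σ →₀ ℕ => α + Finsupp.single a 1

variable {R M}

@[simp] theorem shift_apply (a : σ) (f : (σ →₀ ℕ) →₀ M) (α : σ →₀ ℕ) :
    shift R M a f α = f (α + Finsupp.single a 1) := rfl

theorem unshift_apply_add (a : σ) (f : (σ →₀ ℕ) →₀ M) (α : σ →₀ ℕ) :
    unshift R M a f (α + Finsupp.single a 1) = f α :=
  Finsupp.mapDomain_apply (add_single_inj a) f α

theorem unshift_apply_of_eq_zero (a : σ) (f : (σ →₀ ℕ) →₀ M) (α : σ →₀ ℕ) (h : α a = 0) :
    unshift R M a f α = 0 := by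
  refine Finsupp.mapDomain_of_notMem_range f α ?_
  rintro ⟨β, rfl⟩
  simp at h

theorem shift_unshift (a : σ) (f : (σ →₀ ℕ) →₀ M) : shift R M a (unshift R M a f) = f := by
  ext α
  rw [shift_apply, unshift_apply_add]

theorem exists_add_single {α : σ →₀ ℕ} {a : σ} (h : α a ≠ 0) : ∃ β, α = β + Finsupp.single a 1 :=
  ⟨α - Finsupp.single a 1, (tsub_add_cancel_of_le (by
    rw [Finsupp.single_le_iff]; omega)).symm⟩

theorem shift_unshift_ne {a b : σ} (hab : a ≠ b) (f : (σ →₀ ℕ) →₀ M) :
    shift R M a (unshift R M b f) = unshift R M b (shift R M a f) := by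
  ext α
  by_cases h : α b = 0
  · rw [shift_apply, unshift_apply_of_eq_zero _ _ _ h, unshift_apply_of_eq_zero]
    simp [h, hab]
  · obtain ⟨β, rfl⟩ := exists_add_single h
    rw [unshift_apply_add, shift_apply, shift_apply, add_right_comm, unshift_apply_add]

theorem shiftSys_shift : ShiftSys (R := R) (X := (σ →₀ ℕ) →₀ M) (shift R M : σ → _) where
  comm a b f := by
    ext α
    simp only [shift_apply, add_right_comm]
  onto s b hb f hf := by
    refine ⟨unshift R M b f, mem_kerN.2 fun a ha => ?_, shift_unshift b f⟩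
    have hab : a ≠ b := fun h => hb (h ▸ ha)
    rw [shift_unshift_ne hab, mem_kerN.1 hf a ha, map_zero]

theorem mem_kerN_shift_univ {f : (σ →₀ ℕ) →₀ M} :
    f ∈ kerN (shift R M : σ → _) Set.univ ↔ f = Finsupp.single 0 (f 0) := by
  classical
  constructor
  · intro h
    ext α
    by_cases hα : α = 0
    · subst hα; simp
    · rw [Finsupp.single_apply, if_neg (Ne.symm hα)]
      obtain ⟨a, ha⟩ : ∃ a, α a ≠ 0 := by
        by_contra hc
        push Not at hc
        exact hα (Finsupp.ext hc)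
      obtain ⟨β, rfl⟩ := exists_add_single ha
      have := DFunLike.congr_fun (mem_kerN.1 h a (Set.mem_univ a)) β
      simpa using this
  · intro h
    refine mem_kerN.2 fun a _ => ?_
    ext α
    rw [shift_apply, h, Finsupp.single_apply, if_neg]
    · simp
    · intro h0
      have := DFunLike.congr_fun h0 a
      simp at this

end Shift

end Groth.Agent.ResProp.EF.K114
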