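import Groth.Agent.ResProp.EF.K114.Tens
import Groth.Agent.ResProp.EF.K350.ShiftData

/-!
# The operators of a one step extension on `M ⊗ O(E')` (helper350's `ShiftData`), pieces (T1) - (T5)
-/

set_option autoImplicit false

open TensorProduct

noncomputable section

namespace Groth.Agent.ResProp.EF.K114

open Groth.Agent.ResProp.EF.K350

universe u

variable {R : Type u} [CommRing R] {B B' : Type u} [CommRing B] [HopfAlgebra R B] [CommRing B'] [HopfAlgebra R B']
  {ι : B →ₐc[R] B'} (S : ShiftData R B B' ι)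

theorem e_ι (b : B) : S.e (ι b) = Finsupp.single 0 b := by
  classical
  ext a
  have := S.e_mul b 1 a
  rw [mul_one] at this
  rw [this, S.e_one, Finsupp.single_apply, Finsupp.single_apply]
  split_ifs <;> simp

theorem shiftDat : ShiftDat (ι : B →ₐ[R] B').toLinearMap (fun i => opR R B' (S.lam i)) S.e where
  he i y := Finsupp.ext fun a => S.e_op i y a
  hι b := e_ι S b

section M

variable (M : Type*) [AddCommGroup M] [Module R M]

/-- `M ⊗ θ_i` -/
def th (i : Fin S.r) : M ⊗[R] B' →ₗ[R] M ⊗[R] B' := (opR R B' (S.lam i)).lTensor M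

/-- (T1) -/
theorem th_comm (i j : Fin S.r) (x : M ⊗[R] B') : th S M i (th S M j x) = th S M j (th S M i x) :=
  ((shiftDat S).sys_lTensor M).comm i j x

/-- (T2) -/
theorem th_onto (i : Fin S.r) (x : M ⊗[R] B') (hx : ∀ j < i, th S M j x = 0) :
    ∃ y, (∀ j < i, th S M j y = 0) ∧ th S M i y = x := by
  obtain ⟨y, hy, hxy⟩ := ((shiftDat S).sys_lTensor M).onto {j | j < i} i (lt_irrefl i) x
    (mem_kerN.2 fun j hj => hx j hj)
  exact ⟨y, fun j hj => mem_kerN.1 hy j hj, hxy⟩

/-- (T2) for any set of other indices -/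
theorem th_onto' (s : Set (Fin S.r)) (i : Fin S.r) (hi : i ∉ s) (x : M ⊗[R] B') (hx : ∀ j ∈ s, th S M j x = 0) :
    ∃ y, (∀ j ∈ s, th S M j y = 0) ∧ th S M i y = x := by
  obtain ⟨y, hy, hxy⟩ := ((shiftDat S).sys_lTensor M).onto s i hi x (mem_kerN.2 fun j hj => hx j hj)
  exact ⟨y, fun j hj => mem_kerN.1 hy j hj, hxy⟩

/-- (T3) -/
theorem th_eq_zero_iff (x : M ⊗[R] B') :
    (∀ i, th S M i x = 0) ↔ ∃ y : M ⊗[R] B, (ι : B →ₐ[R] B').toLinearMap.lTensor M y = x := by
  rw [← LinearMap.mem_range, ← (shiftDat S).mem_kerN_univ_lTensor M, mem_kerN]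
  exact ⟨fun h i _ => h i, fun h i => h i (Set.mem_univ i)⟩

theorem th_lTensor_ι (i : Fin S.r) (y : M ⊗[R] B) : th S M i ((ι : B →ₐ[R] B').toLinearMap.lTensor M y) = 0 :=
  (th_eq_zero_iff S M _).2 ⟨y, rfl⟩ i

include S in
/-- (T4) -/
theorem lTensor_ι_injective : Function.Injective ((ι : B →ₐ[R] B').toLinearMap.lTensor M) :=
  (shiftDat S).injective_lTensor M

end M

theorem ι_injective (S : ShiftData R B B' ι) : Function.Injective ι := (shiftDat S).injective

/-- (T5), linearity over `O(E)` -/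
theorem opR_ι_mul (i : Fin S.r) (b : B) (f : B') : opR R B' (S.lam i) (ι b * f) = ι b * opR R B' (S.lam i) f := by
  refine S.e.injective (Finsupp.ext fun a => ?_)
  rw [S.e_op, S.e_mul, S.e_mul, S.e_op]

theorem opR_ι (i : Fin S.r) (b : B) : opR R B' (S.lam i) (ι b) = 0 := by
  refine S.e.injective ?_
  have := (shiftDat S).he i (ι b)
  rw [map_zero, this, e_ι]
  classical
  ext a
  rw [shift_apply, Finsupp.single_apply, if_neg]
  · simp
  · intro h
    have := DFunLike.congr_fun h i
    simp at this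

/-- (T5), colinearity: for every `lam` -/
theorem comul_opR (lam : B' →ₗ[R] R) (f : B') : Coalgebra.comul (R := R) (A := B') (opR R B' lam f) =
    (opR R B' lam).lTensor B' (Coalgebra.comul (R := R) (A := B') f) := by
  have h1 : Coalgebra.comul (R := R) (A := B') ∘ₗ (TensorProduct.rid R B').toLinearMap ∘ₗ lam.lTensor B' =
      (TensorProduct.rid R (B' ⊗[R] B')).toLinearMap ∘ₗ (lam.lTensor (B' ⊗[R] B')) ∘ₗ
        (Coalgebra.comul (R := R) (A := B')).rTensor B' := by
    ext a b
    simp [map_smul]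
  have h2 : (TensorProduct.rid R (B' ⊗[R] B')).toLinearMap ∘ₗ (lam.lTensor (B' ⊗[R] B')) =
      ((TensorProduct.rid R B').toLinearMap ∘ₗ lam.lTensor B').lTensor B' ∘ₗ
        (TensorProduct.assoc R B' B' B').toLinearMap := by
    ext a b c
    simp [TensorProduct.tmul_smul]
  have h3 := Coalgebra.coassoc_apply (R := R) (A := B') f
  calc Coalgebra.comul (R := R) (A := B') (opR R B' lam f)
      = (Coalgebra.comul (R := R) (A := B') ∘ₗ (TensorProduct.rid R B').toLinearMap ∘ₗ lam.lTensor B')
          (Coalgebra.comul (R := R) (A := B') f) := rfl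
    _ = ((TensorProduct.rid R B').toLinearMap ∘ₗ lam.lTensor B').lTensor B'
          (TensorProduct.assoc R B' B' B' ((Coalgebra.comul (R := R) (A := B')).rTensor B'
            (Coalgebra.comul (R := R) (A := B') f))) := by
        rw [h1]
        exact LinearMap.congr_fun h2 _
    _ = ((TensorProduct.rid R B').toLinearMap ∘ₗ lam.lTensor B').lTensor B'
          ((Coalgebra.comul (R := R) (A := B')).lTensor B' (Coalgebra.comul (R := R) (A := B') f)) := by
        rw [h3]
    _ = (opR R B' lam).lTensor B' (Coalgebra.comul (R := R) (A := B') f) := by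
        rw [← LinearMap.lTensor_comp_apply]
        rfl

end Groth.Agent.ResProp.EF.K114
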