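import Groth.Agent.ResProp.EF.K114.Shift
import Mathlib.LinearAlgebra.DirectSum.Finsupp
import Mathlib.LinearAlgebra.TensorProduct.Map

/-!
# Shift systems tensored with a module

`ι : A → A'`, `t i : A' → A'`, `e : A' ≃ (σ →₀ ℕ) →₀ A` with `e (t i x) = shift i (e x)`, `e (ι a) = single 0 a`.  Then for every
module `M` the operators `M ⊗ t i` on `M ⊗ A'` are a shift system with common kernel the image of `M ⊗ A`, and
`M ⊗ A → M ⊗ A'` is injective.
-/

set_option autoImplicit false

namespace Groth.Agent.ResProp.EF.K114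

open scoped TensorProduct

universe u v w x

variable {R : Type u} [CommRing R] {A : Type v} [AddCommGroup A] [Module R A] {A' : Type w} [AddCommGroup A'] [Module R A']
  {σ : Type x}

/-- the data -/
structure ShiftDat (ι : A →ₗ[R] A') (t : σ → A' →ₗ[R] A') (e : A' ≃ₗ[R] ((σ →₀ ℕ) →₀ A)) : Prop where
  he : ∀ i y, e (t i y) = shift R A i (e y)
  hι : ∀ a, e (ι a) = Finsupp.single 0 a

variable {ι : A →ₗ[R] A'} {t : σ → A' →ₗ[R] A'} {e : A' ≃ₗ[R] ((σ →₀ ℕ) →₀ A)}

theorem ShiftDat.sys (h : ShiftDat ι t e) : ShiftSys t := shiftSys_shift.of_equiv e.toAddEquiv h.he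

/-- constructor from the expansion `x = ∑ ι(f m) y m` -/
noncomputable def expand (μ : (σ →₀ ℕ) → A →ₗ[R] A') : ((σ →₀ ℕ) →₀ A) →ₗ[R] A' := Finsupp.lsum R μ

theorem ShiftDat.of_expand (ι : A →ₗ[R] A') (t : σ → A' →ₗ[R] A') (μ : (σ →₀ ℕ) → A →ₗ[R] A')
    (hb : Function.Bijective (expand μ)) (h0 : ∀ a, μ 0 a = ι a)
    (h1 : ∀ i m a, t i (μ (m + Finsupp.single i 1) a) = μ m a) (h2 : ∀ i m a, m i = 0 → t i (μ m a) = 0) :
    ShiftDat ι t (LinearEquiv.ofBijective (expand μ) hb).symm where
  he i y := by
    obtain ⟨f, rfl⟩ := hb.2 y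
    rw [LinearEquiv.symm_apply_eq]
    have e1 : (LinearEquiv.ofBijective (expand μ) hb).symm (expand μ f) = f := by
      rw [LinearEquiv.symm_apply_eq]; rfl
    rw [e1]
    change t i (expand μ f) = expand μ (shift R A i f)
    induction f using Finsupp.induction_linear with
    | zero => simp
    | add f g hf hg => rw [map_add, map_add, hf (by rw [LinearEquiv.symm_apply_eq]; rfl),
        hg (by rw [LinearEquiv.symm_apply_eq]; rfl), map_add, map_add]
    | single m a =>
      have e2 : expand μ (Finsupp.single m a) = μ m a := by simp [expand]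
      rw [e2]
      by_cases hm : m i = 0
      · rw [h2 i m a hm]
        have : shift R A i (Finsupp.single m a) = 0 := by
          classical
          ext α
          rw [shift_apply, Finsupp.single_apply, if_neg]
          · simp
          · rintro rfl
            simp at hm
        rw [this, map_zero]
      · obtain ⟨β, rfl⟩ := exists_add_single hm
        rw [h1]
        have : shift R A i (Finsupp.single (β + Finsupp.single i 1) a) = Finsupp.single β a := by
          classical
          ext α
          rw [shift_apply, Finsupp.single_apply, Finsupp.single_apply]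
          simp
        rw [this]
        simp [expand]
  hι a := by
    rw [LinearEquiv.symm_apply_eq]
    change ι a = expand μ (Finsupp.single 0 a)
    simp [expand, h0]

variable (M : Type*) [AddCommGroup M] [Module R M]

variable (R σ) in
/-- `M ⊗ (X →₀ A) = X →₀ M ⊗ A` for `X = σ →₀ ℕ` -/
noncomputable def tensE (A : Type*) [AddCommGroup A] [Module R A] :
    (M ⊗[R] ((σ →₀ ℕ) →₀ A)) ≃ₗ[R] ((σ →₀ ℕ) →₀ (M ⊗[R] A)) := by
  classical exact TensorProduct.finsuppRight R R M A (σ →₀ ℕ)

theorem tensE_tmul (m : M) (f : (σ →₀ ℕ) →₀ A) (α : σ →₀ ℕ) : tensE R σ M A (m ⊗ₜ f) α = m ⊗ₜ f α := by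
  classical
  exact TensorProduct.finsuppRight_apply_tmul_apply m f α

theorem tensE_shift (i : σ) (z : M ⊗[R] ((σ →₀ ℕ) →₀ A)) :
    tensE R σ M A ((shift R A i).lTensor M z) = shift R (M ⊗[R] A) i (tensE R σ M A z) := by
  induction z using TensorProduct.induction_on with
  | zero => simp
  | tmul m f =>
    ext α
    rw [LinearMap.lTensor_tmul, tensE_tmul, shift_apply, shift_apply, tensE_tmul]
  | add a b ha hb => rw [map_add, map_add, ha, hb, map_add, map_add]

/-- the equivalence for `M ⊗ A'` -/
noncomputable def lE (e : A' ≃ₗ[R] ((σ →₀ ℕ) →₀ A)) : (M ⊗[R] A') ≃ₗ[R] ((σ →₀ ℕ) →₀ (M ⊗[R] A)) :=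
  (LinearEquiv.lTensor M e).trans (tensE R σ M A)

theorem lE_tmul (m : M) (y : A') (α : σ →₀ ℕ) : lE M e (m ⊗ₜ y) α = m ⊗ₜ (e y α) := tensE_tmul M m (e y) α

/-- **the tensored data** -/
theorem ShiftDat.lTensor (h : ShiftDat ι t e) : ShiftDat (ι.lTensor M) (fun i => (t i).lTensor M) (lE M e) where
  he i y := by
    change tensE R σ M A (LinearEquiv.lTensor M e ((t i).lTensor M y)) = shift R _ i (tensE R σ M A (LinearEquiv.lTensor M e y))
    rw [← tensE_shift]
    congr 1
    have : (e : A' →ₗ[R] _) ∘ₗ t i = shift R A i ∘ₗ (e : A' →ₗ[R] _) := LinearMap.ext fun y => h.he i y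
    change (e : A' →ₗ[R] _).lTensor M ((t i).lTensor M y) = (shift R A i).lTensor M ((e : A' →ₗ[R] _).lTensor M y)
    rw [← LinearMap.lTensor_comp_apply, this, LinearMap.lTensor_comp_apply]
  hι z := by
    induction z using TensorProduct.induction_on with
    | zero => simp
    | tmul m a =>
      classical
      ext α
      rw [LinearMap.lTensor_tmul, lE_tmul, h.hι, Finsupp.single_apply, Finsupp.single_apply]
      split_ifs <;> simp
    | add a b ha hb => rw [map_add, map_add, ha, hb, Finsupp.single_add]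

theorem ShiftDat.injective (h : ShiftDat ι t e) : Function.Injective ι := fun a b hab => by
  have := congrArg e hab
  rw [h.hι, h.hι] at this
  exact Finsupp.single_injective _ this

theorem ShiftDat.mem_kerN_univ (h : ShiftDat ι t e) {y : A'} : y ∈ kerN t Set.univ ↔ y ∈ LinearMap.range ι := by
  constructor
  · intro hy
    have : e y ∈ kerN (shift R A : σ → _) Set.univ := mem_kerN.2 fun i hi => by
      rw [← h.he, mem_kerN.1 hy i hi, map_zero]
    refine ⟨e y 0, e.injective ?_⟩
    rw [h.hι]
    exact (mem_kerN_shift_univ.1 this).symm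
  · rintro ⟨a, rfl⟩
    refine mem_kerN.2 fun i _ => e.injective ?_
    rw [h.he, h.hι, map_zero]
    classical
    ext α
    rw [shift_apply, Finsupp.single_apply, if_neg]
    · simp
    · intro h0
      have := DFunLike.congr_fun h0 i
      simp at this

/-- **the tensored system** -/
theorem ShiftDat.sys_lTensor (h : ShiftDat ι t e) : ShiftSys fun i => (t i).lTensor M := (h.lTensor M).sys

theorem ShiftDat.injective_lTensor (h : ShiftDat ι t e) : Function.Injective (ι.lTensor M) := (h.lTensor M).injective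

theorem ShiftDat.mem_kerN_univ_lTensor (h : ShiftDat ι t e) {y : M ⊗[R] A'} :
    y ∈ kerN (fun i => (t i).lTensor M) Set.univ ↔ y ∈ LinearMap.range (ι.lTensor M) := (h.lTensor M).mem_kerN_univ

end Groth.Agent.ResProp.EF.K114
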