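import Groth.Agent.ResProp.EF.K114.Shift
import Mathlib.Algebra.Homology.HomologySequenceLemmas
import Mathlib.Algebra.Homology.HomologicalComplexAbelian
import Mathlib.CategoryTheory.Abelian.SerreClass.Basic
import Mathlib.Algebra.Homology.ShortComplex.ModuleCat
import Mathlib.Algebra.Category.ModuleCat.Abelian
import Mathlib.RingTheory.Noetherian.Basic

/-!
# Cohomology of the common kernel of a system of shift operators

`prop_homology_X₁` : `0 → X₁ → X₂ → X₃ → 0` exact sequence of complexes, `P` a Serre class: `H^j X₁ ∈ P` if `H^j X₂ ∈ P` and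
`H^i X₃ ∈ P` for `i → j`.
`prop_homology_kerSub`, `isZero_homology_kerSub` : `C` a complex of modules, `θ a : C ⟶ C` with `ShiftSys` in every degree, `s` a
finite set: if `H^j C` is in the Serre class `P` for all `j` (is `0` for `deg j > b`) then so is the cohomology of the complex
`(kerSub C θ s).cx` of common kernels (with `b + #s` in place of `b`).
-/

set_option autoImplicit false

namespace Groth.Agent.ResProp.EF.K114

open CategoryTheory CategoryTheory.Limits

universe u v w

section Step

variable {A : Type u} [Category.{v} A] [Abelian A] {ι : Type w} {c : ComplexShape ι}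

theorem prop_homology_X₁ (P : ObjectProperty A) [P.IsSerreClass] {S : ShortComplex (HomologicalComplex A c)}
    (hS : S.ShortExact) (j : ι) (h2 : P (S.X₂.homology j)) (h3 : ∀ i, c.Rel i j → P (S.X₃.homology i)) :
    P (S.X₁.homology j) := by
  by_cases hj : ∃ i, c.Rel i j
  · obtain ⟨i, hij⟩ := hj
    exact P.prop_X₂_of_exact (hS.homology_exact₁ i j hij) (h3 i hij) h2
  · have := hS.mono_f
    have := HomologicalComplex.mono_homologyMap_of_mono_of_not_rel S.f j (by simpa using hj)
    exact P.prop_of_mono (HomologicalComplex.homologyMap S.f j) h2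

end Step

section Mod

variable {R : Type u} [Ring R] {ι : Type w} {c : ComplexShape ι} {C : HomologicalComplex (ModuleCat.{v} R) c}

variable (C) in
/-- a family of submodules stable under `d` -/
structure SubC where
  N : ∀ i, Submodule R (C.X i)
  hd : ∀ i j x, x ∈ N i → (C.d i j).hom x ∈ N j

namespace SubC

/-- the differential -/
def D (S : SubC C) (i j : ι) : S.N i →ₗ[R] S.N j := (C.d i j).hom.restrict fun x hx => S.hd i j x hx

theorem D_val (S : SubC C) (i j : ι) (x : S.N i) : (S.D i j x).1 = (C.d i j).hom x.1 := rfl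

/-- the subcomplex -/
noncomputable def cx (S : SubC C) : HomologicalComplex (ModuleCat.{v} R) c where
  X i := ModuleCat.of R (S.N i)
  d i j := ModuleCat.ofHom (S.D i j)
  shape i j h := by
    have : S.D i j = 0 := LinearMap.ext fun x => Subtype.ext (by
      rw [D_val, C.shape i j h]; rfl)
    rw [this]; rfl
  d_comp_d' i j k _ _ := by
    have : S.D j k ∘ₗ S.D i j = 0 := LinearMap.ext fun x => Subtype.ext (by
      rw [LinearMap.comp_apply, D_val, D_val]
      exact LinearMap.congr_fun (congrArg ModuleCat.Hom.hom (C.d_comp_d i j k)) x.1)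
    rw [← ModuleCat.ofHom_comp, this]; rfl

/-- the inclusion in the whole complex -/
noncomputable def incl (S : SubC C) : S.cx ⟶ C where
  f i := ModuleCat.ofHom (S.N i).subtype
  comm' i j _ := by
    have : (C.d i j).hom ∘ₗ (S.N i).subtype = (S.N j).subtype ∘ₗ S.D i j := LinearMap.ext fun x => rfl
    exact ModuleCat.hom_ext this

/-- the inclusion of subcomplexes -/
noncomputable def inclOf {S T : SubC C} (h : ∀ i, S.N i ≤ T.N i) : S.cx ⟶ T.cx where
  f i := ModuleCat.ofHom (Submodule.inclusion (h i))
  comm' i j _ := by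
    have : T.D i j ∘ₗ Submodule.inclusion (h i) = Submodule.inclusion (h j) ∘ₗ S.D i j :=
      LinearMap.ext fun _ => Subtype.ext rfl
    change ModuleCat.ofHom (Submodule.inclusion (h i)) ≫ ModuleCat.ofHom (T.D i j) =
      ModuleCat.ofHom (S.D i j) ≫ ModuleCat.ofHom (Submodule.inclusion (h j))
    rw [← ModuleCat.ofHom_comp, ← ModuleCat.ofHom_comp, this]

/-- a chain map on a stable subcomplex -/
noncomputable def mapOf (T : SubC C) (φ : C ⟶ C) (h : ∀ i x, x ∈ T.N i → (φ.f i).hom x ∈ T.N i) : T.cx ⟶ T.cx where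
  f i := ModuleCat.ofHom ((φ.f i).hom.restrict fun x hx => h i x hx)
  comm' i j _ := by
    have : T.D i j ∘ₗ ((φ.f i).hom.restrict fun x hx => h i x hx) =
        ((φ.f j).hom.restrict fun x hx => h j x hx) ∘ₗ T.D i j :=
      LinearMap.ext fun x => Subtype.ext (LinearMap.congr_fun (congrArg ModuleCat.Hom.hom (φ.comm i j)) x.1)
    change ModuleCat.ofHom ((φ.f i).hom.restrict fun x hx => h i x hx) ≫ ModuleCat.ofHom (T.D i j) =
      ModuleCat.ofHom (T.D i j) ≫ ModuleCat.ofHom ((φ.f j).hom.restrict fun x hx => h j x hx)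
    rw [← ModuleCat.ofHom_comp, ← ModuleCat.ofHom_comp, this]

variable {S T : SubC C} {φ : C ⟶ C} (hST : ∀ i x, x ∈ S.N i ↔ (φ.f i).hom x = 0 ∧ x ∈ T.N i)
  (h : ∀ i x, x ∈ T.N i → (φ.f i).hom x ∈ T.N i) (hs : ∀ i, ∀ x ∈ T.N i, ∃ y ∈ T.N i, (φ.f i).hom y = x)

/-- `0 → ker φ ∩ T → T → T → 0` -/
noncomputable def ses : ShortComplex (HomologicalComplex (ModuleCat.{v} R) c) :=
  ShortComplex.mk (inclOf (S := S) (T := T) fun i _ hx => ((hST i _).1 hx).2) (mapOf T φ h) (by
    refine HomologicalComplex.hom_ext _ _ fun i => ?_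
    have : ((φ.f i).hom.restrict fun x hx => h i x hx) ∘ₗ
      Submodule.inclusion (fun _ hx => ((hST i _).1 hx).2 : S.N i ≤ T.N i) = 0 :=
      LinearMap.ext fun x => Subtype.ext ((hST i _).1 x.2).1
    change ModuleCat.ofHom (Submodule.inclusion (fun _ hx => ((hST i _).1 hx).2 : S.N i ≤ T.N i)) ≫
      ModuleCat.ofHom ((φ.f i).hom.restrict fun x hx => h i x hx) = 0
    rw [← ModuleCat.ofHom_comp, this]; rfl)

include hs in
theorem ses_shortExact : (ses hST h).ShortExact := by
  refine HomologicalComplex.shortExact_of_degreewise_shortExact _ fun i => ?_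
  have hi : Function.Injective (Submodule.inclusion (fun _ hx => ((hST i _).1 hx).2 : S.N i ≤ T.N i)) :=
    Submodule.inclusion_injective _
  have hsur : Function.Surjective ((φ.f i).hom.restrict fun x hx => h i x hx) := fun x => by
    obtain ⟨y, hy, hxy⟩ := hs i x.1 x.2
    exact ⟨⟨y, hy⟩, Subtype.ext hxy⟩
  have hex : Function.Exact (Submodule.inclusion (fun _ hx => ((hST i _).1 hx).2 : S.N i ≤ T.N i))
      ((φ.f i).hom.restrict fun x hx => h i x hx) := fun x => by
    constructor
    · intro hx
      exact ⟨⟨x.1, (hST i _).2 ⟨congrArg Subtype.val hx, x.2⟩⟩, rfl⟩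
    · rintro ⟨y, rfl⟩
      exact Subtype.ext ((hST i _).1 y.2).1
  exact { exact := (ShortComplex.ShortExact.moduleCat_exact_iff_function_exact _).2 hex
          mono_f := (ModuleCat.mono_iff_injective _).2 hi
          epi_g := (ModuleCat.epi_iff_surjective _).2 hsur }

theorem isIso_incl (S : SubC C) (hS : ∀ i x, x ∈ S.N i) : IsIso S.incl := by
  have : ∀ i, IsIso (S.incl.f i) := fun i => by
    have hb : Function.Bijective (S.N i).subtype := ⟨Subtype.val_injective, fun x => ⟨⟨x, hS i x⟩, rfl⟩⟩
    exact (ConcreteCategory.isIso_iff_bijective _).2 hb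
  exact HomologicalComplex.Hom.isIso_of_components _

end SubC

section Op

variable (C) {σ : Type*} (θ : σ → (C ⟶ C))

/-- the operators in degree `i` -/
def opN (i : ι) (a : σ) : C.X i →ₗ[R] C.X i := ((θ a).f i).hom

/-- the complex of common kernels -/
def kerSub (s : Set σ) : SubC C where
  N i := kerN (opN C θ i) s
  hd i j x hx := mem_kerN.2 fun a ha => by
    have h1 : (C.d i j ≫ (θ a).f j).hom x = ((θ a).f i ≫ C.d i j).hom x := by rw [(θ a).comm]
    have h2 := mem_kerN.1 hx a ha
    simp only [ModuleCat.hom_comp, LinearMap.comp_apply] at h1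
    rw [opN, h1]
    exact (congrArg _ h2).trans (map_zero _)

variable {C θ}

theorem shortExact_kerSub (h : ∀ i, ShiftSys (opN C θ i)) (s : Set σ) (b : σ) (hb : b ∉ s) :
    (SubC.ses (S := kerSub C θ (insert b s)) (T := kerSub C θ s) (φ := θ b) (fun _ _ => mem_kerN_insert)
      (fun i _ hx => (h i).map_kerN s b hx)).ShortExact :=
  SubC.ses_shortExact _ _ fun i x hx => (h i).onto s b hb x hx

/-- **cohomology of the common kernels** -/
theorem prop_homology_kerSub (h : ∀ i, ShiftSys (opN C θ i)) (P : ObjectProperty (ModuleCat.{v} R)) [P.IsSerreClass]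
    (hC : ∀ j, P (C.homology j)) (s : Finset σ) (j : ι) : P ((kerSub C θ (s : Set σ)).cx.homology j) := by
  classical
  induction s using Finset.induction_on generalizing j with
  | empty =>
    have := SubC.isIso_incl (kerSub C θ ((∅ : Finset σ) : Set σ)) fun i x => mem_kerN.2 fun a ha => by simp at ha
    exact P.prop_of_iso (asIso (HomologicalComplex.homologyMap (kerSub C θ ((∅ : Finset σ) : Set σ)).incl j)).symm (hC j)
  | insert b s hb ih =>
    rw [Finset.coe_insert]
    exact prop_homology_X₁ P (shortExact_kerSub h s b (by simpa using hb)) j (ih j) fun i _ => ih i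

theorem isZero_homology_kerSub (h : ∀ i, ShiftSys (opN C θ i)) (deg : ι → ℤ) (hdeg : ∀ i j, c.Rel i j → deg j = deg i + 1)
    (b : ℤ) (hC : ∀ j, b < deg j → IsZero (C.homology j)) (s : Finset σ) (j : ι) (hj : b + s.card < deg j) :
    IsZero ((kerSub C θ (s : Set σ)).cx.homology j) := by
  classical
  induction s using Finset.induction_on generalizing j with
  | empty =>
    have := SubC.isIso_incl (kerSub C θ ((∅ : Finset σ) : Set σ)) fun i x => mem_kerN.2 fun a ha => by simp at ha
    exact (hC j (by simpa using hj)).of_iso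
      (asIso (HomologicalComplex.homologyMap (kerSub C θ ((∅ : Finset σ) : Set σ)).incl j))
  | insert a s ha ih =>
    rw [Finset.coe_insert]
    rw [Finset.card_insert_of_notMem ha] at hj
    push_cast at hj
    exact prop_homology_X₁ (IsZero (C := ModuleCat.{v} R)) (shortExact_kerSub h s a (by simpa using ha)) j
      (ih j (by omega)) fun i hij => ih i (by have := hdeg i j hij; omega)

end Op

end Mod

end Groth.Agent.ResProp.EF.K114
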